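import Groth.Agent.L20.SeeNormal.Sheaf
import Mathlib.AlgebraicGeometry.Morphisms.Flat
import Mathlib.AlgebraicGeometry.Morphisms.ClosedImmersion
import Mathlib.RingTheory.Ideal.Pure

/-!
# Flat closed subschemes
-/

set_option autoImplicit false
set_option linter.style.haveILetI false
set_option backward.isDefEq.respectTransparency false
set_option backward.isDefEq.respectTransparency.types false
universe u

open CategoryTheory AlgebraicGeometry TopologicalSpace

noncomputable section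

namespace Groth.L20.FlatClosed

open Groth.L20.SeeNormal

variable {X : Scheme.{u}}

theorem pure_ideal {I : X.IdealSheafData} (hI : Flat I.subschemeι) (U : X.affineOpens) : (I.ideal U).Pure := by
  haveI := hI
  have hV : IsAffineOpen (I.subschemeι ⁻¹ᵁ U.1) := U.2.preimage I.subschemeι
  have h1 : (I.subschemeι.app U.1).hom.Flat := by
    rw [Scheme.Hom.app_eq_appLE]
    exact I.subschemeι.flat_appLE U.2 hV le_rfl
  have h2 : (CommRingCat.ofHom (Ideal.Quotient.mk (I.ideal U))).hom =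
      (I.subschemeObjIso U).hom.hom.comp (I.subschemeι.app U.1).hom := by
    rw [← CommRingCat.hom_comp, I.subschemeι_app U, Category.assoc, Iso.inv_hom_id, Category.comp_id]
  have h3 : (Ideal.Quotient.mk (I.ideal U)).Flat := by
    rw [← CommRingCat.hom_ofHom (Ideal.Quotient.mk (I.ideal U)), h2]
    exact h1.comp (RingHom.Flat.of_bijective (ConcreteCategory.bijective_of_isIso (I.subschemeObjIso U).hom))
  exact RingHom.flat_algebraMap_iff.1 (by rwa [Ideal.Quotient.algebraMap_eq])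

theorem flat_of_pure {I : X.IdealSheafData} (h : ∀ U : X.affineOpens, (I.ideal U).Pure) : Flat I.subschemeι := by
  rw [IsZariskiLocalAtSource.iff_of_openCover (P := @Flat) I.subschemeCover.openCover]
  intro U
  show Flat (I.subschemeCover.f U ≫ I.subschemeι)
  rw [I.subschemeCover_map_subschemeι U]
  haveI : Flat (Spec.map (CommRingCat.ofHom (Ideal.Quotient.mk (I.ideal U)))) := by
    rw [HasRingHomProperty.Spec_iff (P := @Flat), CommRingCat.hom_ofHom, ← Ideal.Quotient.algebraMap_eq,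
      RingHom.flat_algebraMap_iff]
    exact h U
  rw [Scheme.IdealSheafData.glueDataObjι, Category.assoc]
  infer_instance

theorem mem_support_iff_sI (I : X.IdealSheafData) (U : X.affineOpens) {x : X} (hx : x ∈ U.1) :
    x ∈ I.support ↔ I.ideal U ≤ (U.2.primeIdealOf ⟨x, hx⟩).asIdeal := by
  rw [Scheme.IdealSheafData.mem_support_iff_of_mem hx, Scheme.mem_zeroLocus_iff]
  letI := X.presheaf.algebra_section_stalk ⟨x, hx⟩
  haveI := U.2.isLocalization_stalk ⟨x, hx⟩
  have key : ∀ a : Γ(X, U.1), x ∈ X.basicOpen a ↔ a ∉ (U.2.primeIdealOf ⟨x, hx⟩).asIdeal := fun a => by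
    rw [X.mem_basicOpen a x hx]
    exact IsLocalization.AtPrime.isUnit_to_map_iff (X.presheaf.stalk x) _ a
  exact ⟨fun h a ha => not_not.1 fun h' => h a ha ((key a).2 h'), fun h a ha h' => (key a).1 h' (h ha)⟩

theorem germ_eq_zero {I : X.IdealSheafData} (hI : Flat I.subschemeι) (U : X.affineOpens) {x : X} (hx : x ∈ U.1)
    (hxs : x ∈ I.support) {a : Γ(X, U.1)} (ha : a ∈ I.ideal U) : X.presheaf.germ U.1 x hx a = 0 := by
  haveI := pure_ideal hI U
  obtain ⟨b, hb, hab⟩ := Ideal.exists_eq_mul_of_pure ha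
  letI := X.presheaf.algebra_section_stalk ⟨x, hx⟩
  haveI := U.2.isLocalization_stalk ⟨x, hx⟩
  have hu : (1 - b) ∉ (U.2.primeIdealOf ⟨x, hx⟩).asIdeal := fun h =>
    (U.2.primeIdealOf ⟨x, hx⟩).isPrime.ne_top ((Ideal.eq_top_iff_one _).2
      (by simpa using add_mem h ((mem_support_iff_sI I U hx).1 hxs hb)))
  show algebraMap Γ(X, U.1) (X.presheaf.stalk x) a = 0
  refine (IsUnit.mul_left_eq_zero (IsLocalization.map_units (X.presheaf.stalk x)
    (⟨1 - b, hu⟩ : (U.2.primeIdealOf ⟨x, hx⟩).asIdeal.primeCompl))).1 ?_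
  rw [← map_mul, mul_sub, mul_one, ← hab, sub_self, map_zero]

theorem sI_eq_bot {I : X.IdealSheafData} (hI : Flat I.subschemeι) {x : X} (hxs : x ∈ I.support) : sI I x = ⊥ := by
  obtain ⟨V, hV, hxV, -⟩ := exists_isAffineOpen_mem_and_subset (x := x) (U := (⊤ : X.Opens)) trivial
  rw [sI_eq I ⟨V, hV⟩ hxV, eq_bot_iff, Ideal.map_le_iff_le_comap]
  exact fun a ha => germ_eq_zero hI ⟨V, hV⟩ hxV hxs ha

theorem sI_eq_top {I : X.IdealSheafData} {x : X} (hxs : x ∉ I.support) : sI I x = ⊤ := by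
  obtain ⟨V, hV, hxV, -⟩ := exists_isAffineOpen_mem_and_subset (x := x) (U := (⊤ : X.Opens)) trivial
  rw [mem_support_iff_sI I ⟨V, hV⟩ hxV, SetLike.not_le_iff_exists] at hxs
  obtain ⟨a, ha, hap⟩ := hxs
  letI := X.presheaf.algebra_section_stalk ⟨x, hxV⟩
  haveI := hV.isLocalization_stalk ⟨x, hxV⟩
  rw [sI_eq I ⟨V, hV⟩ hxV]
  exact Ideal.eq_top_of_isUnit_mem _ (Ideal.mem_map_of_mem _ ha)
    (IsLocalization.map_units (X.presheaf.stalk x) (⟨a, hap⟩ : (hV.primeIdealOf ⟨x, hxV⟩).asIdeal.primeCompl))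

theorem stableUnderGeneralization_support {I : X.IdealSheafData} (hI : Flat I.subschemeι) :
    StableUnderGeneralization (I.support : Set X) := by
  intro x z hzx hx
  obtain ⟨V, hV, hxV, -⟩ := exists_isAffineOpen_mem_and_subset (x := x) (U := (⊤ : X.Opens)) trivial
  have hzV : z ∈ V := hzx.mem_open V.2 hxV
  refine (mem_support_iff_sI I ⟨V, hV⟩ hzV).2 fun a ha => ?_
  letI := X.presheaf.algebra_section_stalk ⟨z, hzV⟩
  haveI := hV.isLocalization_stalk ⟨z, hzV⟩
  refine (IsLocalization.AtPrime.to_map_mem_maximal_iff (X.presheaf.stalk z) _ a).1 ?_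
  show X.presheaf.germ V z hzV a ∈ _
  rw [← TopCat.Presheaf.germ_stalkSpecializes_apply X.presheaf hxV hzx, germ_eq_zero hI ⟨V, hV⟩ hxV hx ha, map_zero]
  exact zero_mem _

/-- The ideal of the flat closed subscheme on a given closed set. -/
def idl (Z : Set X) (U : X.affineOpens) : Ideal Γ(X, U.1) :=
  ⨅ (z : {z : X // z ∈ U.1 ∧ z ∈ Z}), RingHom.ker (X.presheaf.germ U.1 z.1 z.2.1).hom

theorem mem_idl {Z : Set X} {U : X.affineOpens} {a : Γ(X, U.1)} :
    a ∈ idl Z U ↔ ∀ (z : X) (hz : z ∈ U.1), z ∈ Z → X.presheaf.germ U.1 z hz a = 0 := by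
  simp [idl, Ideal.mem_iInf, RingHom.mem_ker]

variable {Z : Set X} (hZ : IsClosed Z) (hgen : StableUnderGeneralization Z)

include hZ in
theorem exists_pow_of_forall (U : X.affineOpens) (k a : Γ(X, U.1))
    (h : ∀ (z : X) (hz : z ∈ U.1), z ∈ Z → ∃ n, X.presheaf.germ U.1 z hz (k ^ n * a) = 0) :
    ∃ N, k ^ N * a ∈ idl Z U := by
  choose! N hN using h
  have hK : IsCompact ((U.1 : Set X) ∩ Z) := U.2.isCompact.inter_right hZ
  have key : ∀ z ∈ (U.1 : Set X) ∩ Z, ∃ W : X.Opens, z ∈ W ∧ W ≤ U.1 ∧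
      ∀ (w : X) (hw : w ∈ U.1), w ∈ W → X.presheaf.germ U.1 w hw (k ^ N z * a) = 0 := by
    intro z hz
    obtain ⟨W, hzW, iU, iU', e⟩ := X.presheaf.germ_eq z hz.1 hz.1 (k ^ N z * a) 0 (by rw [hN z hz.1 hz.2, map_zero])
    refine ⟨W, hzW, iU.le, fun w hw hwW => ?_⟩
    rw [← TopCat.Presheaf.germ_res_apply X.presheaf iU w hwW, e, map_zero, map_zero]
  choose! W hzW hWU hW using key
  obtain ⟨T, hT, hcov⟩ := hK.elim_nhds_subcover (fun z => ((W z : X.Opens) : Set X))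
    fun z hz => (W z).2.mem_nhds (hzW z hz)
  refine ⟨T.sup N, mem_idl.2 fun w hw hwZ => ?_⟩
  obtain ⟨z, hzT, hwz⟩ := Set.mem_iUnion₂.1 (hcov ⟨hw, hwZ⟩)
  obtain ⟨d, hd⟩ := Nat.exists_eq_add_of_le (Finset.le_sup (f := N) hzT)
  rw [hd, pow_add, mul_right_comm, map_mul, hW z (hT z hzT) w hw hwz, zero_mul]

include hgen in
theorem isNilpotent_germ {U : X.affineOpens} {z : X} (hz : z ∈ U.1) (hzZ : z ∈ Z) (k : Γ(X, U.1))
    (hk : ∀ (w : X) (hw : w ∈ U.1), w ∈ Z → k ∈ (U.2.primeIdealOf ⟨w, hw⟩).asIdeal) :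
    IsNilpotent (X.presheaf.germ U.1 z hz k) := by
  letI := X.presheaf.algebra_section_stalk ⟨z, hz⟩
  haveI := U.2.isLocalization_stalk ⟨z, hz⟩
  refine nilpotent_iff_mem_prime.2 fun Q hQ => ?_
  haveI := hQ
  let q := Q.comap (algebraMap Γ(X, U.1) (X.presheaf.stalk z))
  haveI : q.IsPrime := Ideal.IsPrime.comap _
  have hqp : q ≤ (U.2.primeIdealOf ⟨z, hz⟩).asIdeal := fun d hd => by
    rw [← IsLocalization.AtPrime.to_map_mem_maximal_iff (X.presheaf.stalk z) (U.2.primeIdealOf ⟨z, hz⟩).asIdeal]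
    exact IsLocalRing.le_maximalIdeal hQ.ne_top hd
  let w := U.2.fromSpec ⟨q, inferInstance⟩
  have hwz : w ⤳ z := by
    have h1 : (⟨q, inferInstance⟩ : PrimeSpectrum Γ(X, U.1)) ⤳ U.2.primeIdealOf ⟨z, hz⟩ :=
      (PrimeSpectrum.le_iff_specializes _ _).1 hqp
    have h2 := h1.map U.2.fromSpec.continuous
    rwa [U.2.fromSpec_primeIdealOf] at h2
  have hwU : w ∈ U.1 := hwz.mem_open U.1.2 hz
  have hwq : (U.2.primeIdealOf ⟨w, hwU⟩).asIdeal = q :=
    congrArg PrimeSpectrum.asIdeal (U.2.fromSpec.isOpenEmbedding.injective (U.2.fromSpec_primeIdealOf ⟨w, hwU⟩))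
  have := hk w hwU (hgen hwz hzZ)
  rw [hwq] at this
  exact this

include hZ hgen in
theorem exists_mem_idl_notMem (U : X.affineOpens) {x : X} (hx : x ∈ U.1) (hxZ : x ∉ Z) :
    ∃ a ∈ idl Z U, a ∉ (U.2.primeIdealOf ⟨x, hx⟩).asIdeal := by
  let p := (U.2.primeIdealOf ⟨x, hx⟩).asIdeal
  let K : Ideal Γ(X, U.1) := PrimeSpectrum.vanishingIdeal (U.2.fromSpec ⁻¹' Z)
  have hzero : PrimeSpectrum.zeroLocus (K : Set Γ(X, U.1)) = U.2.fromSpec ⁻¹' Z := by
    rw [PrimeSpectrum.zeroLocus_vanishingIdeal_eq_closure]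
    exact (hZ.preimage U.2.fromSpec.continuous).closure_eq
  have htop : p ⊔ K = ⊤ := by
    by_contra hne
    obtain ⟨m, hm, hle⟩ := (p ⊔ K).exists_le_maximal hne
    let m' : PrimeSpectrum Γ(X, U.1) := ⟨m, hm.isPrime⟩
    have hmZ : U.2.fromSpec m' ∈ Z :=
      hzero.le (show m' ∈ PrimeSpectrum.zeroLocus (K : Set Γ(X, U.1)) from le_sup_right.trans hle)
    have h1 : U.2.primeIdealOf ⟨x, hx⟩ ⤳ m' := (PrimeSpectrum.le_iff_specializes _ _).1 (le_sup_left.trans hle)
    have h2 := h1.map U.2.fromSpec.continuous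
    rw [U.2.fromSpec_primeIdealOf] at h2
    exact hxZ (hgen h2 hmZ)
  obtain ⟨b, hb, k, hk, hbk⟩ := Submodule.mem_sup.1 ((Ideal.eq_top_iff_one _).1 htop)
  have hkZ : ∀ (w : X) (hw : w ∈ U.1), w ∈ Z → k ∈ (U.2.primeIdealOf ⟨w, hw⟩).asIdeal := fun w hw hwZ => by
    refine (PrimeSpectrum.mem_vanishingIdeal _ _).1 hk _ ?_
    show U.2.fromSpec (U.2.primeIdealOf ⟨w, hw⟩) ∈ Z
    rw [U.2.fromSpec_primeIdealOf]
    exact hwZ
  obtain ⟨N, hN⟩ := exists_pow_of_forall hZ U k 1 fun z hz hzZ => by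
    obtain ⟨n, hn⟩ := isNilpotent_germ hgen hz hzZ k hkZ
    exact ⟨n, by rw [mul_one, map_pow, hn]⟩
  rw [mul_one] at hN
  refine ⟨k ^ N, hN, fun h => ?_⟩
  have hkp : k ∈ p := (U.2.primeIdealOf ⟨x, hx⟩).isPrime.mem_of_pow_mem _ h
  exact (U.2.primeIdealOf ⟨x, hx⟩).isPrime.ne_top ((Ideal.eq_top_iff_one _).2 (hbk ▸ add_mem hb hkp))

include hgen in
theorem exists_pow_germ (U : X.affineOpens) (r a : Γ(X, U.1)) {b c : Γ(X, X.basicOpen r)}
    (hab : (X.presheaf.map (homOfLE (X.basicOpen_le r)).op).hom a = b * c) (hb : b ∈ idl Z (X.affineBasicOpen r))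
    {z : X} (hz : z ∈ U.1) (hzZ : z ∈ Z) : ∃ n, X.presheaf.germ U.1 z hz (r ^ n * a) = 0 := by
  letI := X.presheaf.algebra_section_stalk ⟨z, hz⟩
  haveI := U.2.isLocalization_stalk ⟨z, hz⟩
  by_contra hne
  push Not at hne
  let g := X.presheaf.germ U.1 z hz
  let J : Ideal (X.presheaf.stalk z) :=
    Submodule.comap (LinearMap.toSpanSingleton (X.presheaf.stalk z) (X.presheaf.stalk z) (g a)) ⊥
  have hdis : Disjoint (J : Set (X.presheaf.stalk z)) (Submonoid.powers (g r)) := by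
    rw [Set.disjoint_left]
    rintro _ h ⟨m, rfl⟩
    exact hne m (by simpa [J, g, map_mul] using h)
  obtain ⟨Q, hQ, hJQ, hQd⟩ := Ideal.exists_le_prime_disjoint J _ hdis
  haveI := hQ
  let q := Q.comap (algebraMap Γ(X, U.1) (X.presheaf.stalk z))
  haveI : q.IsPrime := Ideal.IsPrime.comap _
  have hqp : q ≤ (U.2.primeIdealOf ⟨z, hz⟩).asIdeal := fun d hd => by
    rw [← IsLocalization.AtPrime.to_map_mem_maximal_iff (X.presheaf.stalk z) (U.2.primeIdealOf ⟨z, hz⟩).asIdeal]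
    exact IsLocalRing.le_maximalIdeal hQ.ne_top hd
  let w := U.2.fromSpec ⟨q, inferInstance⟩
  have hwz : w ⤳ z := by
    have h1 : (⟨q, inferInstance⟩ : PrimeSpectrum Γ(X, U.1)) ⤳ U.2.primeIdealOf ⟨z, hz⟩ :=
      (PrimeSpectrum.le_iff_specializes _ _).1 hqp
    have h2 := h1.map U.2.fromSpec.continuous
    rwa [U.2.fromSpec_primeIdealOf] at h2
  have hwU : w ∈ U.1 := hwz.mem_open U.1.2 hz
  have hwq : (U.2.primeIdealOf ⟨w, hwU⟩).asIdeal = q :=
    congrArg PrimeSpectrum.asIdeal (U.2.fromSpec.isOpenEmbedding.injective (U.2.fromSpec_primeIdealOf ⟨w, hwU⟩))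
  have hwr : w ∈ X.basicOpen r := (SetLike.ext_iff.1 (U.2.fromSpec_preimage_basicOpen r) (⟨q, inferInstance⟩ : PrimeSpectrum Γ(X, U.1))).2
    (show r ∉ q from fun h => Set.disjoint_left.1 hQd h ⟨1, pow_one _⟩)
  have h0 : X.presheaf.germ U.1 w hwU a = 0 := by
    have h1 := congrArg (X.presheaf.germ (X.basicOpen r) w hwr) hab
    rw [TopCat.Presheaf.germ_res_apply, map_mul, show X.presheaf.germ (X.basicOpen r) w hwr b = 0 from mem_idl.1 hb w hwr (hgen hwz hzZ), zero_mul] at h1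
    exact h1
  letI := X.presheaf.algebra_section_stalk ⟨w, hwU⟩
  haveI := U.2.isLocalization_stalk ⟨w, hwU⟩
  obtain ⟨⟨t, ht⟩, hta⟩ := (IsLocalization.map_eq_zero_iff (U.2.primeIdealOf ⟨w, hwU⟩).asIdeal.primeCompl
    (X.presheaf.stalk w) a).1 h0
  replace ht : t ∉ q := hwq ▸ ht
  exact ht (hJQ (show g t ∈ J by simp [J, g, ← map_mul, hta]))

/-- The flat closed subscheme on a closed set stable under generalization. -/
def flatIdeal : X.IdealSheafData where
  ideal := idl Z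
  map_ideal_basicOpen U r := by
    refine le_antisymm (Ideal.map_le_iff_le_comap.2 fun a ha => mem_idl.2 fun z hz hzZ => ?_) fun b hb => ?_
    · show X.presheaf.germ (X.basicOpen r) z hz ((X.presheaf.map (homOfLE (X.basicOpen_le r)).op).hom a) = 0
      rw [TopCat.Presheaf.germ_res_apply]
      exact mem_idl.1 ha z (X.basicOpen_le r hz) hzZ
    · letI : Algebra Γ(X, U.1) Γ(X, X.basicOpen r) := (X.presheaf.map (homOfLE <| X.basicOpen_le r).op).hom.toAlgebra
      haveI := U.2.isLocalization_basicOpen r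
      obtain ⟨⟨a, ⟨_, n, rfl⟩⟩, hab⟩ := IsLocalization.surj (Submonoid.powers r) (show Γ(X, X.basicOpen r) from b)
      obtain ⟨N, hN⟩ := exists_pow_of_forall hZ U r a fun z hz hzZ => by
        exact exists_pow_germ hgen U r a hab.symm hb hz hzZ
      have h1 := Ideal.mem_map_of_mem (algebraMap Γ(X, U.1) Γ(X, X.basicOpen r)) hN
      rw [map_mul, ← hab, mul_left_comm, ← map_mul] at h1
      have hu : IsUnit (algebraMap Γ(X, U.1) Γ(X, X.basicOpen r) (r ^ N * r ^ n)) := by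
        rw [← pow_add]
        exact IsLocalization.map_units _ (⟨r ^ (N + n), ⟨N + n, rfl⟩⟩ : Submonoid.powers r)
      exact (Ideal.mul_unit_mem_iff_mem _ hu).1 h1

theorem support_flatIdeal : ((flatIdeal hZ hgen).support : Set X) = Z := by
  ext x
  obtain ⟨V, hV, hxV, -⟩ := exists_isAffineOpen_mem_and_subset (x := x) (U := (⊤ : X.Opens)) trivial
  rw [SetLike.mem_coe, mem_support_iff_sI _ ⟨V, hV⟩ hxV]
  refine ⟨fun h => by_contra fun hxZ => ?_, fun hxZ a ha => ?_⟩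
  · obtain ⟨a, ha, hap⟩ := exists_mem_idl_notMem hZ hgen ⟨V, hV⟩ hxV hxZ
    exact hap (h ha)
  · letI := X.presheaf.algebra_section_stalk ⟨x, hxV⟩
    haveI := hV.isLocalization_stalk ⟨x, hxV⟩
    refine (IsLocalization.AtPrime.to_map_mem_maximal_iff (X.presheaf.stalk x) _ a).1 ?_
    show X.presheaf.germ V x hxV a ∈ _
    rw [mem_idl.1 ha x hxV hxZ]
    exact zero_mem _

theorem flat_flatIdeal : Flat (flatIdeal hZ hgen).subschemeι := by
  refine flat_of_pure fun U => Ideal.Pure.of_inf_eq_mul _ fun J _ => le_antisymm (fun a ha => ?_) Ideal.mul_le_inf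
  obtain ⟨b, hb, hab⟩ : ∃ b ∈ idl Z U, a = b * a := by
    by_contra hne
    push Not at hne
    let C : Ideal Γ(X, U.1) := idl Z U ⊔ Submodule.comap (LinearMap.toSpanSingleton Γ(X, U.1) Γ(X, U.1) a) ⊥
    have hC : C ≠ ⊤ := fun h => by
      obtain ⟨b, hb, c, hc, hbc⟩ := Submodule.mem_sup.1 ((Ideal.eq_top_iff_one _).1 h)
      have hc' : c * a = 0 := by simpa using hc
      exact hne b hb (by rw [← add_zero (b * a), ← hc', ← add_mul, hbc, one_mul])
    obtain ⟨m, hm, hle⟩ := C.exists_le_maximal hC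
    let x := U.2.fromSpec ⟨m, hm.isPrime⟩
    have hx : x ∈ U.1 := U.2.range_fromSpec.subset (Set.mem_range_self _)
    have hxm : (U.2.primeIdealOf ⟨x, hx⟩).asIdeal = m :=
      congrArg PrimeSpectrum.asIdeal (U.2.fromSpec.isOpenEmbedding.injective (U.2.fromSpec_primeIdealOf ⟨x, hx⟩))
    by_cases hxZ : x ∈ Z
    · letI := X.presheaf.algebra_section_stalk ⟨x, hx⟩
      haveI := U.2.isLocalization_stalk ⟨x, hx⟩
      obtain ⟨⟨t, ht⟩, hta⟩ := (IsLocalization.map_eq_zero_iff (U.2.primeIdealOf ⟨x, hx⟩).asIdeal.primeCompl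
        (X.presheaf.stalk x) a).1 (mem_idl.1 ha.1 x hx hxZ)
      replace ht : t ∉ m := hxm ▸ ht
      exact ht (hle (le_sup_right (a := idl Z U) (show t ∈ Submodule.comap _ _ by simpa using hta)))
    · obtain ⟨c, hc, hcp⟩ := exists_mem_idl_notMem hZ hgen U hx hxZ
      rw [hxm] at hcp
      exact hcp (hle (le_sup_left (a := idl Z U) hc))
  rw [hab]
  exact Ideal.mul_mem_mul hb ha.2

theorem result :
    Set.BijOn (fun I : X.IdealSheafData => I.support) {I : X.IdealSheafData | Flat I.subschemeι}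
        {Z : TopologicalSpace.Closeds ↑X | StableUnderGeneralization (Z : Set ↑X)} ∧
      ∀ I : X.IdealSheafData, Flat I.subschemeι → ∀ (Y : Scheme.{u}) (g : Y ⟶ X),
        Set.range g.base ⊆ (I.support : Set ↑X) → ∃ g' : Y ⟶ I.subscheme, g' ≫ I.subschemeι = g := by
  refine ⟨⟨fun I hI => stableUnderGeneralization_support hI, fun I hI J hJ h => ext_sI fun x => ?_,
    fun Z hZ => ⟨flatIdeal Z.isClosed hZ, flat_flatIdeal Z.isClosed hZ,
      TopologicalSpace.Closeds.ext (support_flatIdeal Z.isClosed hZ)⟩⟩, fun I hI Y g hg => ?_⟩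
  · by_cases hx : x ∈ I.support
    · rw [sI_eq_bot hI hx, sI_eq_bot hJ ((show I.support = J.support from h) ▸ hx : x ∈ J.support)]
    · rw [sI_eq_top hx, sI_eq_top ((show I.support = J.support from h) ▸ hx : x ∉ J.support)]
  · have hle : I.subschemeι.ker ≤ g.ker := by
      rw [Scheme.IdealSheafData.ker_subschemeι]
      refine Scheme.IdealSheafData.le_ofIdeals_iff.2 fun U a ha => ?_
      refine RingHom.mem_ker.2 (TopCat.Presheaf.section_ext (⟨Y.presheaf, Y.IsSheaf⟩ : TopCat.Sheaf CommRingCat Y.toTopCat) _ _ 0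
        fun y hy => ?_)
      show Y.presheaf.germ _ y hy (g.app U.1 a) = Y.presheaf.germ _ y hy 0
      rw [← Scheme.Hom.germ_stalkMap_apply g U.1 y hy, germ_eq_zero hI U hy (hg ⟨y, rfl⟩) ha, map_zero, map_zero]
    exact ⟨IsClosedImmersion.lift _ g hle, IsClosedImmersion.lift_fac _ _ _⟩

end Groth.L20.FlatClosed
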